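import Mathlib
import Groth.Agent.H23Hyp.Sqrt
import Groth.Agent.H23Proj.Weierstrass
import Groth.Agent.S19396

/-!
Automorphisms of a Weierstrass function field fixing the point at infinity.
-/

set_option autoImplicit false
set_option linter.unusedSectionVars false

universe u v

namespace Groth.Agent.H23Ell

open Polynomial IntermediateField

variable {k : Type u} {K : Type v} [Field k] [Field K] [Algebra k K] {a b : k} {x y : K}

theorem squarefree_cubic (hdisc : 4 * a ^ 3 + 27 * b ^ 2 ≠ 0) :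
    Squarefree (X ^ 3 + C a * X + C b : k[X]) := by
  refine Polynomial.Separable.squarefree ⟨C (-(4 * a ^ 3 + 27 * b ^ 2))⁻¹ * (C (18 * a) * X - C (27 * b)),
    C (-(4 * a ^ 3 + 27 * b ^ 2))⁻¹ * (-C (6 * a) * X ^ 2 + C (9 * b) * X - C (4 * a ^ 2)), ?_⟩
  have h : (C (18 * a) * X - C (27 * b)) * (X ^ 3 + C a * X + C b) +
      (-C (6 * a) * X ^ 2 + C (9 * b) * X - C (4 * a ^ 2)) * derivative (X ^ 3 + C a * X + C b) =
      C (-(4 * a ^ 3 + 27 * b ^ 2)) := by
    simp only [derivative_add, derivative_mul, derivative_C, derivative_X, derivative_X_pow, map_mul, map_neg,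
      map_add, map_pow, map_ofNat, Nat.cast_ofNat]
    ring
  rw [mul_assoc, mul_assoc, ← mul_add, h, ← map_mul, inv_mul_cancel₀ (neg_ne_zero.2 hdisc), map_one]

theorem cubic_coeffs {A B D E : k} (h : C A * X ^ 3 + C B * X ^ 2 + C D * X + C E = (0 : k[X])) :
    A = 0 ∧ B = 0 ∧ D = 0 ∧ E = 0 := by
  have hc : ∀ n, coeff (C A * X ^ 3 + C B * X ^ 2 + C D * X + C E) n = 0 := fun n => by rw [h, coeff_zero]
  refine ⟨?_, ?_, ?_, ?_⟩
  · simpa [coeff_X, coeff_C] using hc 3
  · simpa [coeff_X, coeff_C] using hc 2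
  · simpa [coeff_X, coeff_C] using hc 1
  · simpa [coeff_X, coeff_C] using hc 0

variable (hdisc : 4 * a ^ 3 + 27 * b ^ 2 ≠ 0) (hx : Transcendental k x)
  (hxy : adjoin k ({x, y} : Set K) = ⊤) (heq : y ^ 2 = x ^ 3 + algebraMap k K a * x + algebraMap k K b)

include hdisc hx heq in
theorem y_notMem : y ∉ adjoin k ({x} : Set K) :=
  Groth.Agent.H23Hyp.y_notMem hx (squarefree_cubic hdisc) (f := X ^ 3 + C a * X + C b)
    (by rw [show (X ^ 3 + C a * X + C b : k[X]).natDegree = 3 by compute_degree!]; norm_num)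
    (by simpa using heq)

include hdisc hx hxy heq in
/-- Weighted scalings are automorphisms. -/
theorem exists_scaling {w : k} (hw : w ≠ 0) (ha : a * w ^ 4 = a) (hb : b * w ^ 6 = b) :
    ∃ σ : K ≃ₐ[k] K, σ x = algebraMap k K (w ^ 2) * x ∧ σ y = algebraMap k K (w ^ 3) * y := by
  obtain ⟨φ, hφ, hmem⟩ := Groth.Agent.H23Hyp.exists_ratFunc_hom hx
  set f : RatFunc k := RatFunc.X ^ 3 + algebraMap k (RatFunc k) a * RatFunc.X + algebraMap k (RatFunc k) b with hf
  have hφf : φ f = y ^ 2 := by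
    rw [hf, map_add φ, map_add φ, map_mul φ, map_pow, hφ, AlgHom.commutes, AlgHom.commutes, heq]
  have hirr : Irreducible (X ^ 2 - C f : (RatFunc k)[X]) := by
    refine (Polynomial.irreducible_iff_roots_eq_zero_of_degree_le_three (by simp) (by simp)).2
      (Multiset.eq_zero_of_forall_notMem fun r hr => ?_)
    rw [mem_roots (X_pow_sub_C_ne_zero two_pos f), IsRoot, eval_sub, eval_pow, eval_X, eval_C, sub_eq_zero] at hr
    have h := congrArg φ hr
    rw [map_pow, hφf] at h
    refine y_notMem hdisc hx heq ?_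
    rcases eq_or_eq_neg_of_sq_eq_sq y (φ r) h.symm with h' | h'
    · rw [h']; exact (hmem _).2 ⟨r, rfl⟩
    · rw [h']; exact neg_mem ((hmem _).2 ⟨r, rfl⟩)
  haveI : Fact (Irreducible (X ^ 2 - C f : (RatFunc k)[X])) := ⟨hirr⟩
  have key : ∀ c : k, c ≠ 0 → a * c ^ 4 = a → b * c ^ 6 = b →
      ∃ Φ : AdjoinRoot (X ^ 2 - C f : (RatFunc k)[X]) ≃ₐ[k] K,
        Φ (AdjoinRoot.of _ RatFunc.X) = algebraMap k K (c ^ 2) * x ∧
        Φ (AdjoinRoot.root _) = algebraMap k K (c ^ 3) * y := by
    intro c hc hca hcb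
    have hx' : Transcendental k (algebraMap k K (c ^ 2) * x) := by
      intro halg
      refine hx ?_
      have h := (isAlgebraic_algebraMap (R := k) (A := K) (c ^ 2)⁻¹).mul halg
      rwa [← mul_assoc, ← map_mul, inv_mul_cancel₀ (pow_ne_zero _ hc), map_one, one_mul] at h
    obtain ⟨φ', hφ', -⟩ := Groth.Agent.H23Hyp.exists_ratFunc_hom hx'
    have hroot : (X ^ 2 - C f : (RatFunc k)[X]).eval₂ φ'.toRingHom (algebraMap k K (c ^ 3) * y) = 0 := by
      rw [eval₂_sub, eval₂_X_pow, eval₂_C, mul_pow, heq, sub_eq_zero]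
      simp only [hf, AlgHom.toRingHom_eq_coe, RingHom.coe_coe, map_add, map_mul, map_pow, AlgHom.commutes, hφ']
      conv_rhs => rw [← hca, ← hcb]
      simp only [map_mul, map_pow]
      ring
    set Φ := AdjoinRoot.liftAlgHom (S := k) (X ^ 2 - C f : (RatFunc k)[X]) φ' (algebraMap k K (c ^ 3) * y) hroot
    have hΦx : Φ (AdjoinRoot.of _ RatFunc.X) = algebraMap k K (c ^ 2) * x := by
      rw [← hφ']; exact AdjoinRoot.liftAlgHom_of _ _ _ _ RatFunc.X
    have hΦy : Φ (AdjoinRoot.root _) = algebraMap k K (c ^ 3) * y := AdjoinRoot.liftAlgHom_root _ _ _ _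
    have hsurj : Function.Surjective Φ := by
      intro z
      have hle : adjoin k ({x, y} : Set K) ≤ Φ.fieldRange := by
        have hdiv : ∀ (d : k) (z : K), d ≠ 0 → algebraMap k K d * z ∈ Φ.fieldRange → z ∈ Φ.fieldRange :=
          fun d z hd h => by
            have h' := mul_mem (Φ.fieldRange.algebraMap_mem d⁻¹) h
            rwa [← mul_assoc, ← map_mul, inv_mul_cancel₀ hd, map_one, one_mul] at h'
        rw [adjoin_le_iff]
        rintro _ (rfl | rfl)
        · exact hdiv _ _ (pow_ne_zero _ hc) ⟨_, hΦx⟩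
        · exact hdiv _ _ (pow_ne_zero _ hc) ⟨_, hΦy⟩
      rw [hxy] at hle
      exact hle mem_top
    exact ⟨AlgEquiv.ofBijective Φ ⟨Φ.toRingHom.injective, hsurj⟩, hΦx, hΦy⟩
  obtain ⟨Φ₁, h1x, h1y⟩ := key 1 one_ne_zero (by ring) (by ring)
  obtain ⟨Φ, hwx, hwy⟩ := key w hw ha hb
  simp only [one_pow, map_one, one_mul] at h1x h1y
  refine ⟨Φ₁.symm.trans Φ, ?_, ?_⟩
  · rw [AlgEquiv.trans_apply, ← hwx, ← h1x, AlgEquiv.symm_apply_apply]
  · rw [AlgEquiv.trans_apply, ← hwy, ← h1y, AlgEquiv.symm_apply_apply]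

variable [IsAlgClosed k] (h2 : (2 : k) ≠ 0) (h3 : (3 : k) ≠ 0) (hK : FunFld.IsFunctionField k K)
  (hgen : FunFld.genus k K = 1) {P : FunFld.Place k K}
  (hxL : x ∈ FunFld.L (Finsupp.single P 2)) (hx2 : P.ord x = -2)
  (hyL : y ∈ FunFld.L (Finsupp.single P 3)) (hy3 : P.ord y = -3)

include hdisc hx heq h2 h3 hK hgen hxL hx2 hyL hy3 in
/-- An automorphism fixing the base point is a weighted scaling. -/
theorem exists_weight (σ : K ≃ₐ[k] K) (hσ : ∀ z, P.1 (σ z) = P.1 z) :
    ∃ w : k, w ≠ 0 ∧ a * w ^ 4 = a ∧ b * w ^ 6 = b ∧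
      σ x = algebraMap k K (w ^ 2) * x ∧ σ y = algebraMap k K (w ^ 3) * y := by
  classical
  have hdeg := Groth.Agent.H23Proj.deg_eq_one_of_isAlgClosed hK P
  have hpull : ∀ R : FunFld.Place k K, R ≠ P → Groth.Agent.H23Proj.pullPlace σ R ≠ P := by
    intro R hR h
    refine hR ?_
    have hP : Groth.Agent.H23Proj.pullPlace σ P = P := Subtype.ext (Valuation.ext fun z => hσ z)
    have h' := congrArg (Groth.Agent.H23Proj.pullPlace σ.symm) (h.trans hP.symm)
    rwa [Groth.Agent.H23Proj.symm_pullPlace, Groth.Agent.H23Proj.symm_pullPlace] at h'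
  have hmap : ∀ (n : ℤ) (z : K), z ∈ FunFld.L (Finsupp.single P n) → σ z ∈ FunFld.L (Finsupp.single P n) := by
    intro n z hz R
    rcases eq_or_ne R P with rfl | hR
    · rw [hσ]; exact hz R
    · have h := hz (Groth.Agent.H23Proj.pullPlace σ R)
      rw [Finsupp.single_eq_of_ne (hpull R hR), Groth.Agent.H23Proj.pullPlace_apply] at h
      rwa [Finsupp.single_eq_of_ne hR]
  have hs2 := (Groth.Agent.S19396.result k K hK hgen P hdeg x y hxL hx2 hyL hy3 2 le_rfl).2
  have hs3 := (Groth.Agent.S19396.result k K hK hgen P hdeg x y hxL hx2 hyL hy3 3 (by norm_num)).2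
  obtain ⟨c, hc⟩ := (Submodule.mem_span_range_iff_exists_fun k).1
    (show σ x ∈ _ by rw [hs2]; exact hmap _ _ hxL)
  obtain ⟨d, hd⟩ := (Submodule.mem_span_range_iff_exists_fun k).1
    (show σ y ∈ _ by rw [hs3]; exact hmap _ _ hyL)
  obtain ⟨r, u, hσx⟩ : ∃ r u : k, σ x = algebraMap k K r + algebraMap k K u * x :=
    ⟨c (Sum.inl 0), c (Sum.inl 1), by rw [← hc]; simp [Fintype.sum_sum_type, Fin.sum_univ_succ, Algebra.smul_def]⟩
  obtain ⟨t, s, v, hσy⟩ : ∃ t s v : k, σ y = algebraMap k K t + algebraMap k K s * x + algebraMap k K v * y :=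
    ⟨d (Sum.inl 0), d (Sum.inl 1), d (Sum.inr 0), by
      rw [← hd]; simp [Fintype.sum_sum_type, Fin.sum_univ_succ, Algebra.smul_def]⟩
  set E := adjoin k ({x} : Set K)
  set xE : E := ⟨x, mem_adjoin_simple_self k x⟩
  have hyE : y ∉ Set.range (algebraMap E K) := fun ⟨e, he⟩ => y_notMem hdisc hx heq (he ▸ e.2)
  have hrel := congrArg σ heq
  simp only [map_add, map_mul, map_pow, AlgEquiv.commutes, hσx, hσy] at hrel
  obtain ⟨h0, h1⟩ := Groth.Agent.H23Hyp.coords_unique hyE
    (a := algebraMap k E v ^ 2 * (xE ^ 3 + algebraMap k E a * xE + algebraMap k E b) +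
      (algebraMap k E t + algebraMap k E s * xE) ^ 2 - ((algebraMap k E r + algebraMap k E u * xE) ^ 3 +
        algebraMap k E a * (algebraMap k E r + algebraMap k E u * xE) + algebraMap k E b))
    (b := 2 * algebraMap k E v * (algebraMap k E t + algebraMap k E s * xE)) (a' := 0) (b' := 0)
    (by
      simp only [map_sub, map_add, map_mul, map_pow, map_ofNat, map_zero, ← IsScalarTower.algebraMap_apply,
        show algebraMap E K xE = x from rfl, zero_mul, add_zero]
      linear_combination hrel - algebraMap k K v ^ 2 * heq)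
  have hxne : x ≠ 0 := fun h => hx (h ▸ isAlgebraic_zero)
  have hu : u ≠ 0 := by
    rintro rfl
    have h := hσ x
    rw [hσx, map_zero, zero_mul, add_zero, Groth.Agent.H23FunFld.val_eq_exp P hxne, hx2] at h
    have h' := P.2.1 r
    rw [h, ← WithZero.exp_zero, WithZero.exp_le_exp] at h'
    omega
  have hyne : y ≠ 0 := fun h => by rw [h, Groth.Agent.H23FunFld.ord_zero] at hy3; omega
  have hv : v ≠ 0 := by
    rintro rfl
    have h := hσ y
    rw [hσy, map_zero, zero_mul, add_zero, Groth.Agent.H23FunFld.val_eq_exp P hyne, hy3] at h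
    have h' : P.1 (algebraMap k K t + algebraMap k K s * x) ≤ WithZero.exp 2 :=
      (P.1.map_add _ _).trans (max_le ((P.2.1 t).trans (by rw [← WithZero.exp_zero, WithZero.exp_le_exp]; norm_num))
        (by rw [map_mul]; refine (mul_le_of_le_one_left zero_le (P.2.1 s)).trans ?_
            rw [Groth.Agent.H23FunFld.val_eq_exp P hxne, hx2, WithZero.exp_le_exp]; norm_num))
    rw [h, WithZero.exp_le_exp] at h'
    omega
  have hinj : ∀ q : k[X], aeval x q = 0 → q = 0 := transcendental_iff.1 hx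
  have hq1 : C (2 * v * t) + C (2 * v * s) * X = 0 := hinj _ (by
    have h := congrArg (algebraMap E K) h1
    simp only [map_mul, map_add, map_ofNat, map_zero, ← IsScalarTower.algebraMap_apply,
      show algebraMap E K xE = x from rfl] at h
    simp only [map_add, map_mul, aeval_C, aeval_X, map_ofNat]
    linear_combination h)
  have hq0 : C (v ^ 2 - u ^ 3) * X ^ 3 + C (s ^ 2 - 3 * u ^ 2 * r) * X ^ 2 +
      C (v ^ 2 * a + 2 * t * s - 3 * u * r ^ 2 - a * u) * X + C (v ^ 2 * b + t ^ 2 - r ^ 3 - a * r - b) = 0 := hinj _ (by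
    have h := congrArg (algebraMap E K) h0
    simp only [map_mul, map_add, map_sub, map_pow, map_ofNat, map_zero, ← IsScalarTower.algebraMap_apply,
      show algebraMap E K xE = x from rfl] at h
    simp only [map_add, map_sub, map_mul, map_pow, aeval_C, aeval_X, map_ofNat]
    linear_combination h)
  have hs0 : s = 0 := by simpa [h2, hv] using congrArg (fun q => coeff q 1) hq1
  have ht0 : t = 0 := by simpa [h2, hv] using congrArg (fun q => coeff q 0) hq1
  subst hs0 ht0
  obtain ⟨c3, c2, c1, c0⟩ := cubic_coeffs hq0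
  have e3 : v ^ 2 = u ^ 3 := sub_eq_zero.1 c3
  have hr0 : r = 0 := by
    have h' : 3 * u ^ 2 * r = 0 := by linear_combination -c2
    simpa [h3, hu] using h'
  subst hr0
  have e1 : v ^ 2 * a - a * u = 0 := by linear_combination c1
  have e0 : v ^ 2 * b - b = 0 := by linear_combination c0
  have hw2 : (v / u) ^ 2 = u := by rw [div_pow, e3]; field_simp
  have hw3 : (v / u) ^ 3 = v := by rw [div_pow, ← e3]; field_simp
  refine ⟨v / u, div_ne_zero hv hu, ?_, ?_, by rw [hw2, hσx, map_zero, zero_add],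
    by rw [hw3, hσy, map_zero, zero_mul, zero_add, zero_add]⟩
  · rw [show (v / u) ^ 4 = ((v / u) ^ 2) ^ 2 by ring, hw2]
    refine mul_right_cancel₀ hu ?_
    linear_combination e1 - a * e3
  · rw [show (v / u) ^ 6 = ((v / u) ^ 3) ^ 2 by ring, hw3]
    linear_combination e0

include hx2 in
theorem eq_of_weights {w w' : k} (hy3 : P.ord y = -3) (h2' : algebraMap k K (w ^ 2) * x = algebraMap k K (w' ^ 2) * x)
    (h3' : algebraMap k K (w ^ 3) * y = algebraMap k K (w' ^ 3) * y) (hw : w ≠ 0) : w = w' := by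
  have hxne : x ≠ 0 := fun h => by rw [h, Groth.Agent.H23FunFld.ord_zero] at hx2; omega
  have hyne : y ≠ 0 := fun h => by rw [h, Groth.Agent.H23FunFld.ord_zero] at hy3; omega
  have e2 : w ^ 2 = w' ^ 2 := (algebraMap k K).injective (mul_right_cancel₀ hxne h2')
  have e3 : w ^ 3 = w' ^ 3 := (algebraMap k K).injective (mul_right_cancel₀ hyne h3')
  have h : w' ^ 2 * w = w' ^ 2 * w' := by
    rw [← e2]
    calc w ^ 2 * w = w ^ 3 := by ring
      _ = w' ^ 3 := e3
      _ = w' ^ 2 * w' := by ring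
      _ = w ^ 2 * w' := by rw [e2]
  exact mul_left_cancel₀ (fun h0 => hw (pow_eq_zero_iff two_ne_zero |>.1 (e2.trans h0))) h

end Groth.Agent.H23Ell
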